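/-
Automorphism groups of small graphs bounded by refinement certificates.

A graph on `Fin n` is given by rows of bits `A`.  An automorphism also preserves the relations
"has a common neighbour" (`E1`) and "has two common neighbours" (`E2`).  A certificate lists all
the vertices with, for each of them, some earlier vertices and a bound `c` on the number of
vertices related to these in the same way; the product of the bounds bounds the automorphism
group (`card_graphAut_le`).
-/
import Mathlib
import Cfsg.Agent.EqLemmas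

set_option autoImplicit false

namespace Cfsg.Agent.CommGraph

/-- The automorphisms of the graph with rows `A`. -/
def graphAut {n : ℕ} (adj : Fin n → Fin n → Prop) : Subgroup (Equiv.Perm (Fin n)) where
  carrier := {σ | ∀ i j, adj (σ i) (σ j) ↔ adj i j}
  one_mem' := fun _ _ => Iff.rfl
  mul_mem' := fun {σ τ} hσ hτ i j => (hσ (τ i) (τ j)).trans (hτ i j)
  inv_mem' := fun {σ} hσ i j => by
    rw [← hσ (σ⁻¹ i) (σ⁻¹ j), ← Equiv.Perm.mul_apply, ← Equiv.Perm.mul_apply, mul_inv_cancel]
    rfl

theorem mem_graphAut {n : ℕ} {adj : Fin n → Fin n → Prop} {σ : Equiv.Perm (Fin n)} :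
    σ ∈ graphAut adj ↔ ∀ i j, adj (σ i) (σ j) ↔ adj i j := Iff.rfl

/-- The adjacency coded by rows of bits. -/
def bitAdj (n : ℕ) (A : List ℕ) (i j : Fin n) : Prop := (A.getD i.1 0).testBit j.1 = true

/-- The rows of the relations "one common neighbour" and "two common neighbours". -/
def commonRows (A : List ℕ) (a : ℕ) : ℕ → ℕ × ℕ
  | 0 => (0, 0)
  | k + 1 =>
    let r := commonRows A a k
    bif a.testBit k then (r.1 ||| A.getD k 0, r.2 ||| (r.1 &&& A.getD k 0)) else r

theorem commonRows_one (A : List ℕ) (a j : ℕ) : ∀ k,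
    (commonRows A a k).1.testBit j = true ↔
      ∃ l < k, a.testBit l = true ∧ (A.getD l 0).testBit j = true
  | 0 => by simp [commonRows]
  | k + 1 => by
    have ih := commonRows_one A a j k
    rcases hb : a.testBit k with _ | _
    · simp only [commonRows, hb, cond_false, ih]
      constructor
      · rintro ⟨l, hl, h⟩
        exact ⟨l, by omega, h⟩
      · rintro ⟨l, hl, h⟩
        rcases Nat.lt_succ_iff_lt_or_eq.mp hl with hl | rfl
        · exact ⟨l, hl, h⟩
        · simp [hb] at h
    · simp only [commonRows, hb, cond_true, Nat.testBit_or, Bool.or_eq_true, ih]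
      constructor
      · rintro (⟨l, hl, h⟩ | h)
        · exact ⟨l, by omega, h⟩
        · exact ⟨k, by omega, hb, h⟩
      · rintro ⟨l, hl, h⟩
        rcases Nat.lt_succ_iff_lt_or_eq.mp hl with hl | rfl
        · exact Or.inl ⟨l, hl, h⟩
        · exact Or.inr h.2

theorem commonRows_two (A : List ℕ) (a j : ℕ) : ∀ k,
    (commonRows A a k).2.testBit j = true ↔
      ∃ l < k, ∃ l' < l, a.testBit l = true ∧ (A.getD l 0).testBit j = true ∧
        a.testBit l' = true ∧ (A.getD l' 0).testBit j = true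
  | 0 => by simp [commonRows]
  | k + 1 => by
    have ih := commonRows_two A a j k
    rcases hb : a.testBit k with _ | _
    · simp only [commonRows, hb, cond_false, ih]
      constructor
      · rintro ⟨l, hl, h⟩
        exact ⟨l, by omega, h⟩
      · rintro ⟨l, hl, l', hl', h⟩
        rcases Nat.lt_succ_iff_lt_or_eq.mp hl with hl | rfl
        · exact ⟨l, hl, l', hl', h⟩
        · simp [hb] at h
    · simp only [commonRows, hb, cond_true, Nat.testBit_or, Nat.testBit_and, Bool.or_eq_true,
        Bool.and_eq_true, ih, commonRows_one]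
      constructor
      · rintro (⟨l, hl, h⟩ | ⟨⟨l', hl', h1, h2⟩, h⟩)
        · exact ⟨l, by omega, h⟩
        · exact ⟨k, by omega, l', hl', hb, h, h1, h2⟩
      · rintro ⟨l, hl, l', hl', h⟩
        rcases Nat.lt_succ_iff_lt_or_eq.mp hl with hl | rfl
        · exact Or.inl ⟨l, hl, l', hl', h⟩
        · exact Or.inr ⟨⟨l', hl', h.2.2.1, h.2.2.2⟩, h.2.1⟩

/-- The vertices related to `w` as `b` is, by one row of bits. -/
def sameAs (full row b : ℕ) : ℕ := bif row.testBit b then row else full ^^^ row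

theorem testBit_sameAs {n row b v : ℕ} (hv : v < n) :
    (sameAs (2 ^ n - 1) row b).testBit v = true ↔ row.testBit v = row.testBit b := by
  rcases hb : row.testBit b with _ | _ <;>
    simp [sameAs, hb, Nat.testBit_two_pow_sub_one, hv]

/-- The vertices, other than the vertices of `ws`, related to those as `b` is. -/
def candidates (full : ℕ) (A E1 E2 : List ℕ) (b : ℕ) : List ℕ → ℕ
  | [] => full
  | w :: ws =>
    sameAs full (A.getD w 0) b &&& sameAs full (E1.getD w 0) b &&&
      sameAs full (E2.getD w 0) b &&& (full ^^^ 1 <<< w) &&& candidates full A E1 E2 b ws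

/-- The number of bits below `n`. -/
def bitCount (m n : ℕ) : ℕ := ((List.range n).filter fun k => m.testBit k).length

/-- The check of a list of steps `(b, c, ws)`, starting from the fixed vertices `F`. -/
def checkSteps (n : ℕ) (A E1 E2 : List ℕ) : List (ℕ × ℕ × List ℕ) → ℕ → Bool
  | [], F => F == 2 ^ n - 1
  | (b, c, ws) :: rest, F =>
    Nat.blt b n && !F.testBit b && ws.all (fun w => Nat.blt w n && F.testBit w) &&
      Nat.ble (bitCount (candidates (2 ^ n - 1) A E1 E2 b ws) n) c &&
      checkSteps n A E1 E2 rest (F ||| 1 <<< b)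

/-- The whole check. -/
def checkGraph (n : ℕ) (A E1 E2 : List ℕ) (steps : List (ℕ × ℕ × List ℕ)) (bound : ℕ) : Bool :=
  (List.range n).all (fun i => Nat.blt (A.getD i 0) (2 ^ n) &&
      commonRows A (A.getD i 0) n == (E1.getD i 0, E2.getD i 0)) &&
    checkSteps n A E1 E2 steps 0 && Nat.ble (steps.map fun s => s.2.1).prod bound

section soundness

variable {n : ℕ} {A E1 E2 : List ℕ}

theorem rel_one (hE : ∀ i < n, commonRows A (A.getD i 0) n = (E1.getD i 0, E2.getD i 0))
    (i j : Fin n) : (E1.getD i.1 0).testBit j.1 = true ↔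
      ∃ l : Fin n, bitAdj n A i l ∧ bitAdj n A l j := by
  rw [show E1.getD i.1 0 = (commonRows A (A.getD i.1 0) n).1 by rw [hE _ i.2], commonRows_one]
  exact ⟨fun ⟨l, hl, h⟩ => ⟨⟨l, hl⟩, h⟩, fun ⟨l, h⟩ => ⟨l.1, l.2, h⟩⟩

theorem rel_two (hE : ∀ i < n, commonRows A (A.getD i 0) n = (E1.getD i 0, E2.getD i 0))
    (i j : Fin n) : (E2.getD i.1 0).testBit j.1 = true ↔
      ∃ l l' : Fin n, l ≠ l' ∧ bitAdj n A i l ∧ bitAdj n A l j ∧ bitAdj n A i l' ∧
        bitAdj n A l' j := by
  rw [show E2.getD i.1 0 = (commonRows A (A.getD i.1 0) n).2 by rw [hE _ i.2], commonRows_two]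
  constructor
  · rintro ⟨l, hl, l', hl', h⟩
    exact ⟨⟨l, hl⟩, ⟨l', hl'.trans hl⟩, fun e => absurd (Fin.mk.inj e) (by omega), h⟩
  · rintro ⟨l, l', hne, h1, h2, h3, h4⟩
    rcases lt_or_gt_of_ne (Fin.val_ne_of_ne hne) with h | h
    · exact ⟨l'.1, l'.2, l.1, h, h3, h4, h1, h2⟩
    · exact ⟨l.1, l.2, l'.1, h, h1, h2, h3, h4⟩

theorem relations_invariant
    (hE : ∀ i < n, commonRows A (A.getD i 0) n = (E1.getD i 0, E2.getD i 0))
    {σ : Equiv.Perm (Fin n)} (hσ : σ ∈ graphAut (bitAdj n A)) (w v : Fin n) :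
    (A.getD (σ w).1 0).testBit (σ v).1 = (A.getD w.1 0).testBit v.1 ∧
    (E1.getD (σ w).1 0).testBit (σ v).1 = (E1.getD w.1 0).testBit v.1 ∧
    (E2.getD (σ w).1 0).testBit (σ v).1 = (E2.getD w.1 0).testBit v.1 := by
  refine ⟨Bool.eq_iff_iff.mpr (hσ w v), Bool.eq_iff_iff.mpr ?_, Bool.eq_iff_iff.mpr ?_⟩
  · rw [rel_one hE, rel_one hE]
    constructor
    · rintro ⟨l, hl⟩
      obtain ⟨l, rfl⟩ := σ.surjective l
      simp only [hσ _ _] at hl
      exact ⟨l, hl⟩
    · rintro ⟨l, hl⟩
      exact ⟨σ l, by simpa only [hσ _ _] using hl⟩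
  · rw [rel_two hE, rel_two hE]
    constructor
    · rintro ⟨l, l', hne, h⟩
      obtain ⟨l, rfl⟩ := σ.surjective l
      obtain ⟨l', rfl⟩ := σ.surjective l'
      simp only [hσ _ _] at h
      exact ⟨l, l', fun e => hne (by rw [e]), h⟩
    · rintro ⟨l, l', hne, h⟩
      exact ⟨σ l, σ l', fun e => hne (σ.injective e), by simpa only [hσ _ _] using h⟩

theorem candidates_spec
    (hE : ∀ i < n, commonRows A (A.getD i 0) n = (E1.getD i 0, E2.getD i 0))
    {σ : Equiv.Perm (Fin n)} (hσ : σ ∈ graphAut (bitAdj n A)) (b : Fin n) :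
    ∀ ws : List ℕ, (∀ w ∈ ws, w ≠ b.1 ∧ ∃ h : w < n, σ ⟨w, h⟩ = ⟨w, h⟩) →
      (candidates (2 ^ n - 1) A E1 E2 b.1 ws).testBit (σ b).1 = true
  | [], _ => by simp [candidates, Nat.testBit_two_pow_sub_one]
  | w :: ws, h => by
    obtain ⟨hwb, hw, hfix⟩ := h w List.mem_cons_self
    obtain ⟨r0, r1, r2⟩ := relations_invariant hE hσ ⟨w, hw⟩ b
    rw [hfix] at r0 r1 r2
    have hne : w ≠ (σ b).1 := by
      intro e
      exact hwb (congrArg Fin.val (σ.injective
        (hfix.trans (Fin.ext e : (⟨w, hw⟩ : Fin n) = σ b))))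
    have ih := candidates_spec hE hσ b ws fun w' hw' => h w' (List.mem_cons_of_mem _ hw')
    simp only [candidates, Nat.testBit_and, Bool.and_eq_true, testBit_sameAs (σ b).2]
    refine ⟨⟨⟨⟨r0, r1⟩, r2⟩, ?_⟩, ih⟩
    simp [Nat.testBit_xor, Nat.testBit_two_pow_sub_one, Nat.one_shiftLeft, Nat.testBit_two_pow,
      hne]

/-- The automorphisms fixing each vertex whose bit is set in `F`. -/
def fixing (adj : Fin n → Fin n → Prop) (F : ℕ) : Subgroup (Equiv.Perm (Fin n)) :=
  graphAut adj ⊓ fixingSubgroup (Equiv.Perm (Fin n)) {i : Fin n | F.testBit i.1 = true}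

theorem mem_fixing {adj : Fin n → Fin n → Prop} {F : ℕ} {σ : Equiv.Perm (Fin n)} :
    σ ∈ fixing adj F ↔ σ ∈ graphAut adj ∧ ∀ i : Fin n, F.testBit i.1 = true → σ i = i := by
  simp [fixing, mem_fixingSubgroup_iff]

theorem card_fixing_le
    (hE : ∀ i < n, commonRows A (A.getD i 0) n = (E1.getD i 0, E2.getD i 0)) :
    ∀ (steps : List (ℕ × ℕ × List ℕ)) (F : ℕ), checkSteps n A E1 E2 steps F = true →
      Nat.card (fixing (bitAdj n A) F) ≤ (steps.map fun s => s.2.1).prod
  | [], F, h => by
    simp only [checkSteps, beq_iff_eq] at h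
    subst h
    have : fixing (bitAdj n A) (2 ^ n - 1) = ⊥ := by
      refine (Subgroup.eq_bot_iff_forall _).mpr fun σ hσ => Equiv.ext fun i => ?_
      exact (mem_fixing.mp hσ).2 i (by simp [Nat.testBit_two_pow_sub_one])
    simp [this]
  | (b, c, ws) :: rest, F, h => by
    simp only [checkSteps, Bool.and_eq_true, Nat.blt_eq, Nat.ble_eq, List.all_eq_true,
      Bool.not_eq_true'] at h
    obtain ⟨⟨⟨⟨hb, hFb⟩, hws⟩, hc⟩, hrest⟩ := h
    have ih := card_fixing_le hE rest _ hrest
    set S := fixing (bitAdj n A) F with hS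
    have hstab : Nat.card (MulAction.stabilizer S (⟨b, hb⟩ : Fin n)) ≤
        Nat.card (fixing (bitAdj n A) (F ||| 1 <<< b)) := by
      refine Nat.card_le_card_of_injective (fun σ => ⟨σ.1.1, mem_fixing.mpr
        ⟨(mem_fixing.mp σ.1.2).1, fun i hi => ?_⟩⟩) fun σ τ e => ?_
      · rw [Nat.testBit_or, Bool.or_eq_true] at hi
        rcases hi with hi | hi
        · exact (mem_fixing.mp σ.1.2).2 i hi
        · rw [Nat.one_shiftLeft, Nat.testBit_two_pow, decide_eq_true_eq] at hi
          obtain rfl : (⟨b, hb⟩ : Fin n) = i := Fin.ext hi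
          exact σ.2
      · exact Subtype.ext (Subtype.ext (congrArg Subtype.val e :))
    have horb : Nat.card (MulAction.orbit S (⟨b, hb⟩ : Fin n)) ≤ c := by
      refine le_trans ?_ hc
      rw [bitCount, ← List.toFinset_card_of_nodup (List.Nodup.filter _ List.nodup_range),
        ← Fintype.card_coe, ← Nat.card_eq_fintype_card]
      refine Nat.card_le_card_of_injective (fun x => ⟨x.1.1, ?_⟩) fun x y e =>
        Subtype.ext (Fin.ext (congrArg Subtype.val e))
      obtain ⟨σ, hσ⟩ := x.2
      rw [List.mem_toFinset, List.mem_filter, List.mem_range]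
      refine ⟨x.1.2, ?_⟩
      rw [← hσ]
      refine candidates_spec hE (mem_fixing.mp σ.2).1 ⟨b, hb⟩ ws fun w hw => ?_
      refine ⟨fun e => ?_, (hws w hw).1, (mem_fixing.mp σ.2).2 _ (hws w hw).2⟩
      have hw2 := (hws w hw).2
      rw [e, hFb] at hw2
      exact Bool.false_ne_true hw2
    calc Nat.card S = Nat.card (MulAction.orbit S (⟨b, hb⟩ : Fin n)) *
          Nat.card (MulAction.stabilizer S (⟨b, hb⟩ : Fin n)) := by
          rw [← Nat.card_prod]
          exact Nat.card_congr (MulAction.orbitProdStabilizerEquivGroup S _).symm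
      _ ≤ c * (rest.map fun s => s.2.1).prod := Nat.mul_le_mul horb (hstab.trans ih)
      _ = _ := by simp

/-- A checked certificate bounds the automorphism group. -/
theorem card_graphAut_le {steps : List (ℕ × ℕ × List ℕ)} {bound : ℕ}
    (h : checkGraph n A E1 E2 steps bound = true) :
    Nat.card (graphAut (bitAdj n A)) ≤ bound := by
  simp only [checkGraph, Bool.and_eq_true, List.all_eq_true, List.mem_range, Nat.blt_eq,
    beq_iff_eq, Nat.ble_eq] at h
  obtain ⟨⟨hrows, hsteps⟩, hb⟩ := h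
  refine le_trans ?_ ((card_fixing_le (fun i hi => (hrows i hi).2) steps 0 hsteps).trans hb)
  refine Nat.card_le_card_of_injective (fun σ => ⟨σ.1, mem_fixing.mpr ⟨σ.2, fun i hi => ?_⟩⟩)
    fun σ τ e => Subtype.ext (congrArg Subtype.val e :)
  simp at hi

end soundness

end Cfsg.Agent.CommGraph
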