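/-
Groups with the commuting graph of a given simple group.

Main result: `iso_of_commuting_graph`.  If `K` is simple, `t` is an element with centraliser of
order 48 whose only elements centralised by a group of order 16 are `1` and `t`, and the graph
induced on the conjugates of `t` has at most `2 |K|` automorphisms, then any group with the
commuting graph of `K` is isomorphic to `K`: both act faithfully on this graph, and the images
coincide.
-/
import Mathlib
import Cfsg.Agent.Lib.CommutingGraph.Rigid

set_option autoImplicit false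
open Subgroup

namespace Cfsg.Agent.CommGraph

section extend

variable {H K : Type*} [One H] [One K]

open scoped Classical in
/-- An equivalence of the non-identity elements, extended by `1 ↦ 1`. -/
noncomputable def extendEquiv (f : {h : H // h ≠ 1} ≃ {g : K // g ≠ 1}) : H ≃ K where
  toFun h := if hh : h = 1 then 1 else (f ⟨h, hh⟩).1
  invFun g := if hg : g = 1 then 1 else (f.symm ⟨g, hg⟩).1
  left_inv h := by
    by_cases hh : h = 1
    · simp [hh]
    · simp [hh, (f ⟨h, hh⟩).2]
  right_inv g := by
    by_cases hg : g = 1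
    · simp [hg]
    · simp [hg, (f.symm ⟨g, hg⟩).2]

theorem extendEquiv_one (f : {h : H // h ≠ 1} ≃ {g : K // g ≠ 1}) : extendEquiv f 1 = 1 := by
  simp [extendEquiv]

theorem extendEquiv_ne {f : {h : H // h ≠ 1} ≃ {g : K // g ≠ 1}} {h : H} (hh : h ≠ 1) :
    extendEquiv f h = (f ⟨h, hh⟩).1 := by
  simp [extendEquiv, hh]

end extend

theorem extendEquiv_commute {H K : Type*} [Group H] [Group K]
    {f : {h : H // h ≠ 1} ≃ {g : K // g ≠ 1}}
    (hf : ∀ x y : {h : H // h ≠ 1},
      (x : H) * y = y * x ↔ ((f x) : K) * (f y) = (f y) * (f x)) (x y : H) :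
    Commute (extendEquiv f x) (extendEquiv f y) ↔ Commute x y := by
  by_cases hx : x = 1
  · subst hx; simp [extendEquiv_one]
  by_cases hy : y = 1
  · subst hy; simp [extendEquiv_one]
  rw [extendEquiv_ne hx, extendEquiv_ne hy]
  exact (hf ⟨x, hx⟩ ⟨y, hy⟩).symm

section action

variable {G : Type*} [Group G] {n : ℕ}

/-- Conjugation on an invariant family of distinct elements. -/
noncomputable def familyPerm (u : Fin n → G) (hu : Function.Injective u)
    (hclosed : ∀ g : G, ∀ i, ∃ j, u j = g * u i * g⁻¹) : G →* Equiv.Perm (Fin n) :=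
  letI : MulAction G (Fin n) :=
    { smul := fun g i => (hclosed g i).choose
      one_smul := fun i => hu (by
        show u ((hclosed 1 i).choose) = u i
        rw [(hclosed 1 i).choose_spec]; group)
      mul_smul := fun g h i => hu (by
        show u ((hclosed (g * h) i).choose) = u ((hclosed g (hclosed h i).choose).choose)
        rw [(hclosed (g * h) i).choose_spec, (hclosed g _).choose_spec,
          (hclosed h i).choose_spec]
        group) }
  MulAction.toPermHom G (Fin n)

theorem apply_familyPerm {u : Fin n → G} {hu : Function.Injective u}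
    {hclosed : ∀ g : G, ∀ i, ∃ j, u j = g * u i * g⁻¹} (g : G) (i : Fin n) :
    u (familyPerm u hu hclosed g i) = g * u i * g⁻¹ :=
  (hclosed g i).choose_spec

theorem familyPerm_mem_graphAut {u : Fin n → G} {hu : Function.Injective u}
    {hclosed : ∀ g : G, ∀ i, ∃ j, u j = g * u i * g⁻¹} {adj : Fin n → Fin n → Prop}
    (hadj : ∀ i j, adj i j ↔ i ≠ j ∧ Commute (u i) (u j)) (g : G) :
    familyPerm u hu hclosed g ∈ graphAut adj := fun i j => by
  rw [hadj, hadj, apply_familyPerm (hu := hu) (hclosed := hclosed),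
    apply_familyPerm (hu := hu) (hclosed := hclosed), Commute.conj_iff]
  simp

theorem commute_of_familyPerm_eq_one {u : Fin n → G} {hu : Function.Injective u}
    {hclosed : ∀ g : G, ∀ i, ∃ j, u j = g * u i * g⁻¹} {g : G}
    (hg : familyPerm u hu hclosed g = 1) (i : Fin n) : Commute g (u i) := by
  have h := apply_familyPerm (hu := hu) (hclosed := hclosed) g i
  rw [hg, Equiv.Perm.one_apply] at h
  exact (eq_mul_inv_iff_mul_eq.mp h).symm

end action

theorem card_centralizer_eq_of_equiv {H K : Type*} [Group H] [Group K] (F : H ≃ K)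
    (hF : ∀ x y, Commute (F x) (F y) ↔ Commute x y) (x : H) :
    Nat.card (centralizer ({x} : Set H)) = Nat.card (centralizer ({F x} : Set K)) := by
  refine Nat.card_congr (Equiv.subtypeEquiv F fun y => ?_)
  rw [mem_centralizer_singleton_iff, mem_centralizer_singleton_iff]
  exact (hF y x).symm

section main

variable {K : Type*} [Group K] [Finite K]

/-- An element with centraliser of order 48 is conjugate to `t`. -/
theorem isConj_of_card_centralizer (h32 : ¬ 32 ∣ Nat.card K) {t : K}
    (hord : orderOf t = 2) (ht : Nat.card (centralizer ({t} : Set K)) = 48)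
    (hZ : ∀ z ∈ centralizer ({t} : Set K),
      16 ∣ Nat.card ↥(centralizer ({t} : Set K) ⊓ centralizer ({z} : Set K)) → z = 1 ∨ z = t)
    {k : K} (hk1 : k ≠ 1) (hk : Nat.card (centralizer ({k} : Set K)) = 48) : IsConj k t := by
  classical
  have : Fact (Nat.Prime 2) := ⟨Nat.prime_two⟩
  have h48 : Nat.factorization 48 2 = 4 := by
    rw [Nat.factorization_def _ Nat.prime_two, show (48 : ℕ) = 2 ^ 4 * 3 from rfl,
      padicValNat.mul (by norm_num) (by norm_num), padicValNat.prime_pow,
      padicValNat.eq_zero_of_not_dvd (by norm_num : ¬ 2 ∣ 3)]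
  have hK : (Nat.card K).factorization 2 = 4 := by
    refine le_antisymm ?_ ?_
    · by_contra hlt
      exact h32 (show (32 : ℕ) ∣ _ from
        ((Nat.prime_two.pow_dvd_iff_le_factorization Nat.card_pos.ne').mpr
          (by omega : 5 ≤ _)))
    · refine (Nat.prime_two.pow_dvd_iff_le_factorization Nat.card_pos.ne').mp
        ((show 2 ^ 4 ∣ 48 by norm_num).trans (ht ▸ card_subgroup_dvd_card _))
  have key : ∀ (C : Subgroup K), Nat.card C = 48 → ∀ P : Sylow 2 C,
      ∃ Q : Sylow 2 K, (Q : Subgroup K) = (P : Subgroup C).map C.subtype := by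
    intro C hC P
    refine ⟨Sylow.ofCard ((P : Subgroup C).map C.subtype) ?_, rfl⟩
    rw [card_map_of_injective C.subtype_injective, P.card_eq_multiplicity, hC, h48, hK]
  obtain ⟨P, -⟩ := (IsPGroup.of_card (p := 2) (n := 1) (G := zpowers
      (⟨t, mem_centralizer_singleton_iff.mpr rfl⟩ : centralizer ({t} : Set K))) (by
        rw [Nat.card_zpowers, Subgroup.orderOf_mk, hord]; rfl)).exists_le_sylow
  obtain ⟨Qt, hQt⟩ := key _ ht P
  obtain ⟨Qk, hQk⟩ := key _ hk (default : Sylow 2 (centralizer ({k} : Set K)))
  obtain ⟨g, hg⟩ := MulAction.exists_smul_eq K Qk Qt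
  have hcent : ∀ q ∈ (Qt : Subgroup K),
      q ∈ centralizer ({t} : Set K) ⊓ centralizer ({g * k * g⁻¹} : Set K) := by
    intro q hq
    have hqt : q ∈ centralizer ({t} : Set K) := by
      rw [hQt] at hq
      obtain ⟨q, -, rfl⟩ := hq
      exact q.2
    refine ⟨hqt, ?_⟩
    rw [← hg, Sylow.coe_subgroup_smul, mem_pointwise_smul_iff_inv_smul_mem] at hq
    rw [hQk] at hq
    obtain ⟨q', -, hq'⟩ := hq
    have hc : Commute (q' : K) k := mem_centralizer_singleton_iff.mp q'.2
    rw [show (q' : K) = g⁻¹ * q * g by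
      simpa [MulAut.smul_def] using hq'] at hc
    refine mem_centralizer_singleton_iff.mpr ?_
    have := (Commute.conj_iff g).mpr hc
    simpa [mul_assoc, Commute, SemiconjBy] using this
  have htQ : t ∈ (Qt : Subgroup K) := by
    -- the centre of the centraliser lies in each of its Sylow subgroups
    obtain ⟨P', hP'⟩ := (IsPGroup.of_card (p := 2) (n := 1) (G := zpowers
        (⟨t, mem_centralizer_singleton_iff.mpr rfl⟩ : centralizer ({t} : Set K))) (by
          rw [Nat.card_zpowers, Subgroup.orderOf_mk, hord]; rfl)).exists_le_sylow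
    obtain ⟨c, hc⟩ := MulAction.exists_smul_eq (centralizer ({t} : Set K)) P' P
    rw [hQt]
    refine ⟨⟨t, mem_centralizer_singleton_iff.mpr rfl⟩, ?_, rfl⟩
    show _ ∈ (P : Subgroup (centralizer ({t} : Set K)))
    rw [← hc, Sylow.coe_subgroup_smul, mem_pointwise_smul_iff_inv_smul_mem]
    have : (MulAut.conj c)⁻¹ • (⟨t, mem_centralizer_singleton_iff.mpr rfl⟩ :
        centralizer ({t} : Set K)) = ⟨t, mem_centralizer_singleton_iff.mpr rfl⟩ := by
      apply Subtype.ext
      have hct : (c : K) * t = t * c := mem_centralizer_singleton_iff.mp c.2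
      simp [MulAut.smul_def, mul_assoc, ← hct]
    rw [this]
    exact hP' (mem_zpowers _)
  have hzt : g * k * g⁻¹ ∈ centralizer ({t} : Set K) :=
    mem_centralizer_singleton_iff.mpr
      (mem_centralizer_singleton_iff.mp (hcent t htQ).2).symm
  have h16 : 16 ∣ Nat.card ↥(centralizer ({t} : Set K) ⊓
      centralizer ({g * k * g⁻¹} : Set K)) := by
    have hcard : Nat.card (Qt : Subgroup K) = 16 := by
      rw [Qt.card_eq_multiplicity, hK]; rfl
    exact hcard ▸ card_dvd_of_le hcent
  rcases hZ _ hzt h16 with h | h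
  · exact absurd (conj_eq_one_iff.mp h) hk1
  · exact isConj_iff.mpr ⟨g, h⟩

/-- The main criterion. -/
theorem iso_of_commuting_graph [IsSimpleGroup K] {n : ℕ} (hn : Nat.card K = 48 * n)
    (h32 : ¬ 32 ∣ Nat.card K) {t : K} (hord : orderOf t = 2)
    (ht : Nat.card (centralizer ({t} : Set K)) = 48)
    (hZ : ∀ z ∈ centralizer ({t} : Set K),
      16 ∣ Nat.card ↥(centralizer ({t} : Set K) ⊓ centralizer ({z} : Set K)) → z = 1 ∨ z = t)
    (v : Fin n → K) (hv : Function.Injective v) (hw : ∀ i, IsConj t (v i))
    (adj : Fin n → Fin n → Prop) (hadj : ∀ i j, adj i j ↔ i ≠ j ∧ Commute (v i) (v j))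
    (hbound : Nat.card (graphAut adj) ≤ 2 * Nat.card K) (hn2 : 1 < n)
    {H : Type*} [Group H] [Finite H] (f : {h : H // h ≠ 1} ≃ {g : K // g ≠ 1})
    (hf : ∀ x y : {h : H // h ≠ 1},
      (x : H) * y = y * x ↔ ((f x) : K) * (f y) = (f y) * (f x)) :
    Nonempty (H ≃* K) := by
  classical
  have ht1 : t ≠ 1 := fun e => by simp [e] at hord
  -- the conjugates of `t`
  have hrange : Set.range v = {k | IsConj t k} := by
    refine Set.eq_of_subset_of_ncard_le (Set.range_subset_iff.mpr hw) ?_ (Set.toFinite _)
    have h1 : (Set.range v).ncard = n := by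
      rw [← Nat.card_coe_set_eq, Nat.card_range_of_injective hv, Nat.card_fin]
    have h2 : {k : K | IsConj t k}.ncard * 48 = Nat.card K := by
      have horb : {k : K | IsConj t k} = MulAction.orbit (ConjAct K) t := by
        ext k
        rw [Set.mem_ofPred_eq, ConjAct.mem_orbit_conjAct, isConj_comm]
      have hst : Nat.card (MulAction.stabilizer (ConjAct K) t) = 48 := by
        rw [← ht]
        refine Nat.card_congr (Equiv.subtypeEquiv ConjAct.ofConjAct.toEquiv fun c => ?_)
        rw [MulAction.mem_stabilizer_iff, ConjAct.smul_def, mul_inv_eq_iff_eq_mul,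
          mem_centralizer_singleton_iff]
        rfl
      rw [horb, ← MulAction.index_stabilizer, ← hst, Subgroup.index_mul_card]
      rfl
    omega
  have hV : ∀ k : K, (k ≠ 1 ∧ Nat.card (centralizer ({k} : Set K)) = 48) ↔ ∃ i, v i = k := by
    intro k
    constructor
    · rintro ⟨h1, h48⟩
      have : k ∈ {k | IsConj t k} := (isConj_of_card_centralizer h32 hord ht hZ h1 h48).symm
      rw [← hrange] at this
      exact this
    · rintro ⟨i, rfl⟩
      obtain ⟨c, hc⟩ := isConj_iff.mp (hw i)
      refine ⟨fun e => ht1 (conj_eq_one_iff.mp (hc.trans e)), ?_⟩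
      rw [← ht, ← hc]
      refine Nat.card_congr (Equiv.subtypeEquiv (MulAut.conj c⁻¹).toEquiv fun y => ?_)
      rw [mem_centralizer_singleton_iff, mem_centralizer_singleton_iff]
      show Commute y (c * t * c⁻¹) ↔ Commute ((MulAut.conj c⁻¹) y) t
      rw [← Commute.conj_iff (a := (MulAut.conj c⁻¹) y) (b := t) c]
      simp [mul_assoc]
  have hvclosed : ∀ g : K, ∀ i, ∃ j, v j = g * v i * g⁻¹ := by
    intro g i
    have : g * v i * g⁻¹ ∈ Set.range v := by
      rw [hrange]
      exact (hw i).trans (isConj_iff.mpr ⟨g, rfl⟩)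
    exact this
  set F := extendEquiv f with hFdef
  have hF := extendEquiv_commute hf
  have hF1 : F 1 = 1 := extendEquiv_one f
  set u : Fin n → H := fun i => F.symm (v i) with hu
  have huinj : Function.Injective u := F.symm.injective.comp hv
  have huV : ∀ h : H, (h ≠ 1 ∧ Nat.card (centralizer ({h} : Set H)) = 48) ↔ ∃ i, u i = h := by
    intro h
    rw [card_centralizer_eq_of_equiv F hF, show h ≠ 1 ↔ F h ≠ 1 by rw [← hF1, F.injective.ne_iff],
      hV]
    exact exists_congr fun i => (F.symm_apply_eq).symm
  have huclosed : ∀ g : H, ∀ i, ∃ j, u j = g * u i * g⁻¹ := by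
    intro g i
    obtain ⟨h1, h48⟩ := (huV _).mpr ⟨i, rfl⟩
    refine (huV _).mp ⟨fun e => h1 (conj_eq_one_iff.mp e), ?_⟩
    rw [← h48]
    refine Nat.card_congr (Equiv.subtypeEquiv (MulAut.conj g⁻¹).toEquiv fun y => ?_)
    rw [mem_centralizer_singleton_iff, mem_centralizer_singleton_iff]
    show Commute y (g * u i * g⁻¹) ↔ Commute ((MulAut.conj g⁻¹) y) (u i)
    rw [← Commute.conj_iff (a := (MulAut.conj g⁻¹) y) (b := u i) g]
    simp [mul_assoc]
  have huadj : ∀ i j, adj i j ↔ i ≠ j ∧ Commute (u i) (u j) := fun i j => by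
    rw [hadj, ← hF (u i) (u j), ← hFdef]
    simp [hu]
  set φ := familyPerm v hv hvclosed with hφ
  set ψ := familyPerm u huinj huclosed with hψ
  -- both actions are faithful
  have hKker : ∀ k : K, (∀ i, Commute k (v i)) → k = 1 := by
    have hbot : φ.ker = ⊥ := by
      refine (IsSimpleGroup.eq_bot_or_eq_top_of_normal φ.ker inferInstance).resolve_right ?_
      intro htop
      have hc : ∀ k : K, k ∈ centralizer ({v ⟨0, by omega⟩} : Set K) := fun k =>
        mem_centralizer_singleton_iff.mpr (commute_of_familyPerm_eq_one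
          (MonoidHom.mem_ker.mp (show k ∈ φ.ker by rw [htop]; exact mem_top k)) _)
      have h48 := ((hV _).mpr ⟨⟨0, by omega⟩, rfl⟩).2
      rw [(eq_top_iff' _).mpr hc, card_top, hn] at h48
      omega
    intro k hk
    have : k ∈ φ.ker := Equiv.ext fun i => hv (by
      rw [apply_familyPerm (hu := hv) (hclosed := hvclosed), (hk i).eq]; simp)
    rwa [hbot, mem_bot] at this
  have hφinj : Function.Injective φ := (injective_iff_map_eq_one φ).mpr fun k hk =>
    hKker k (commute_of_familyPerm_eq_one hk)
  have hψinj : Function.Injective ψ := (injective_iff_map_eq_one ψ).mpr fun h hh => by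
    have := hKker (F h) fun i => by
      have := (hF h (u i)).mpr (commute_of_familyPerm_eq_one hh i)
      rwa [hu, ← hFdef, Equiv.apply_symm_apply] at this
    exact F.injective (this.trans hF1.symm)
  have hHK : Nat.card H = Nat.card K := Nat.card_congr F
  have hψle : ψ.range ≤ graphAut adj := by
    rintro _ ⟨g, rfl⟩; exact familyPerm_mem_graphAut huadj g
  have hφle : φ.range ≤ graphAut adj := by
    rintro _ ⟨g, rfl⟩; exact familyPerm_mem_graphAut hadj g
  have hψcard : Nat.card ψ.range = Nat.card K := by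
    rw [← hHK, Nat.card_congr (MonoidHom.ofInjective hψinj).toEquiv]
  have hφcard : Nat.card φ.range = Nat.card K :=
    (Nat.card_congr (MonoidHom.ofInjective hφinj).toEquiv).symm
  have hidx : (ψ.range.comap φ).index ≤ 2 := by
    rw [index_comap]
    refine le_trans (relIndex_le_of_le_right hφle ?_) ?_
    · exact index_ne_zero_of_finite
    · have h := relIndex_mul_relIndex ⊥ ψ.range (graphAut adj) bot_le hψle
      rw [relIndex_bot_left, relIndex_bot_left, hψcard] at h
      have hK0 : 0 < Nat.card K := Nat.card_pos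
      nlinarith
  have htop : ψ.range.comap φ = ⊤ := by
    by_contra hne
    have h2 : (ψ.range.comap φ).index = 2 := by
      have h0 : (ψ.range.comap φ).index ≠ 0 := index_ne_zero_of_finite
      have h1 : (ψ.range.comap φ).index ≠ 1 := fun e => hne (index_eq_one.mp e)
      omega
    have hn' := normal_of_index_eq_two h2
    rcases IsSimpleGroup.eq_bot_or_eq_top_of_normal _ hn' with h | h
    · rw [h, index_bot, hn] at h2; omega
    · exact hne h
  have hle : φ.range ≤ ψ.range := by
    rintro _ ⟨k, rfl⟩
    exact (htop ▸ mem_top k : k ∈ ψ.range.comap φ)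
  have heq : φ.range = ψ.range := eq_of_le_of_card_ge hle (by rw [hφcard, hψcard])
  exact ⟨(MonoidHom.ofInjective hψinj).trans ((MulEquiv.subgroupCongr heq.symm).trans
    (MonoidHom.ofInjective hφinj).symm)⟩

end main

end Cfsg.Agent.CommGraph
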