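/-
The criterion of `CommutingGraph/Main` from kernel checks on coded elements.
-/
import Cfsg.Agent.Lib.CommutingGraph.Main

set_option autoImplicit false
open Subgroup

namespace Cfsg.Agent.CommGraph

/-- A coding of elements of a group by natural numbers. -/
structure Coding (K : Type*) [Group K] where
  /-- The codes in use. -/
  ok : ℕ → Bool
  /-- The element of a code. -/
  rep : ℕ → K
  /-- The test for `a b = c d`. -/
  eq2 : ℕ → ℕ → ℕ → ℕ → Bool
  rep_inj : ∀ a b, ok a = true → ok b = true → rep a = rep b → a = b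
  eq2_iff : ∀ a b c d, ok a = true → ok b = true → ok c = true → ok d = true →
    (eq2 a b c d = true ↔ rep a * rep b = rep c * rep d)

variable {K : Type*} [Group K] (D : Coding K)

/-- The codes of `a` and `b` commute. -/
def Coding.com (a b : ℕ) : Bool := D.eq2 a b b a

theorem Coding.com_iff {a b : ℕ} (ha : D.ok a = true) (hb : D.ok b = true) :
    D.com a b = true ↔ Commute (D.rep a) (D.rep b) :=
  D.eq2_iff a b b a ha hb hb ha

/-- Strictly increasing lists. -/
def increasing (l : List ℕ) : Bool := (l.zip l.tail).all fun x => Nat.blt x.1 x.2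

theorem pairwise_of_increasing : ∀ l : List ℕ, increasing l = true → l.Pairwise (· < ·)
  | [], _ => List.Pairwise.nil
  | [a], _ => List.pairwise_singleton _ _
  | a :: b :: l, hall => by
    simp only [increasing, List.tail_cons, List.zip_cons_cons, List.all_cons, Bool.and_eq_true,
      Nat.blt_eq] at hall
    have hp := pairwise_of_increasing (b :: l) hall.2
    refine List.pairwise_cons.mpr ⟨fun c hc => ?_, hp⟩
    rcases List.mem_cons.mp hc with rfl | hc
    · exact hall.1
    · exact hall.1.trans ((List.pairwise_cons.mp hp).1 c hc)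

/-- `V` lists conjugates of `t`, with witnesses `W`. -/
def checkFamily (t : ℕ) (n : ℕ) (V W : List ℕ) : Bool :=
  V.length == n && increasing V && (List.range n).all fun i =>
    D.ok (V.getD i 0) && D.ok (W.getD i 0) &&
      D.eq2 (W.getD i 0) t (V.getD i 0) (W.getD i 0)

/-- The rows `A` give the commuting graph on `V`. -/
def checkRows (n : ℕ) (V A : List ℕ) : Bool :=
  (List.range n).all fun i => (List.range n).all fun j =>
    (A.getD i 0).testBit j == (i != j && D.com (V.getD i 0) (V.getD j 0))

/-- `C` lists the centraliser of `t`; only `one` and `t` have centraliser in it of order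
divisible by 16. -/
def checkCentralizer (t one : ℕ) (C : List ℕ) : Bool :=
  D.ok t && D.ok one && C.length == 48 && increasing C &&
    C.all fun c => D.ok c && D.com c t &&
      ((C.filter fun y => D.com y c).length % 16 != 0 || c == one || c == t)

theorem iso_of_checks [Finite K] [IsSimpleGroup K] {n t one : ℕ} {V W A E1 E2 C : List ℕ}
    {steps : List (ℕ × ℕ × List ℕ)} (hn : Nat.card K = 48 * n) (h32 : ¬ 32 ∣ Nat.card K)
    (hn2 : 1 < n) (hone : D.rep one = 1) (hord : orderOf (D.rep t) = 2)
    (hC : checkCentralizer D t one C = true)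
    (hcomplete : ∀ k : K, k * D.rep t = D.rep t * k → ∃ c ∈ C, D.rep c = k)
    (hV : checkFamily D t n V W = true) (hA : checkRows D n V A = true)
    (hG : checkGraph n A E1 E2 steps (2 * (48 * n)) = true)
    {H : Type*} [Group H] [Finite H] (f : {h : H // h ≠ 1} ≃ {g : K // g ≠ 1})
    (hf : ∀ x y : {h : H // h ≠ 1},
      (x : H) * y = y * x ↔ ((f x) : K) * (f y) = (f y) * (f x)) :
    Nonempty (H ≃* K) := by
  classical
  simp only [checkCentralizer, Bool.and_eq_true, beq_iff_eq, List.all_eq_true, Bool.or_eq_true,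
    bne_iff_ne] at hC
  obtain ⟨⟨⟨⟨htok, honeok⟩, hClen⟩, hCinc⟩, hC⟩ := hC
  simp only [checkFamily, Bool.and_eq_true, beq_iff_eq, List.all_eq_true, List.mem_range] at hV
  obtain ⟨⟨hVlen, hVinc⟩, hV⟩ := hV
  simp only [checkRows, List.all_eq_true, List.mem_range, beq_iff_eq] at hA
  have hCnodup : C.Nodup := (pairwise_of_increasing C hCinc).imp fun h => ne_of_lt h
  have hCinj : ∀ a ∈ C, ∀ b ∈ C, D.rep a = D.rep b → a = b := fun a ha b hb =>
    D.rep_inj a b (hC a ha).1.1 (hC b hb).1.1
  have hmemC : ∀ k : K, k ∈ centralizer ({D.rep t} : Set K) ↔ ∃ c ∈ C, D.rep c = k := by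
    intro k
    rw [mem_centralizer_singleton_iff]
    refine ⟨hcomplete k, ?_⟩
    rintro ⟨c, hc, rfl⟩
    exact (D.com_iff (hC c hc).1.1 htok).mp (hC c hc).1.2
  have count : ∀ (P : K → Prop) (p : ℕ → Bool), (∀ c ∈ C, p c = true ↔ P (D.rep c)) →
      Nat.card {k : K // k ∈ centralizer ({D.rep t} : Set K) ∧ P k} = (C.filter p).length := by
    intro P p hp
    have : Fintype K := Fintype.ofFinite K
    rw [← List.toFinset_card_of_nodup (hCnodup.filter p), Nat.card_eq_fintype_card,
      Fintype.card_subtype]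
    refine (Finset.card_bij (fun c _ => D.rep c) ?_ ?_ ?_).symm
    · intro c hc
      rw [List.mem_toFinset, List.mem_filter] at hc
      exact Finset.mem_filter.mpr ⟨Finset.mem_univ _, (hmemC _).mpr ⟨c, hc.1, rfl⟩,
        (hp c hc.1).mp hc.2⟩
    · intro a ha b hb he
      rw [List.mem_toFinset, List.mem_filter] at ha hb
      exact hCinj a ha.1 b hb.1 he
    · intro k hk
      obtain ⟨hkC, hkP⟩ := (Finset.mem_filter.mp hk).2
      obtain ⟨c, hc, rfl⟩ := (hmemC k).mp hkC
      exact ⟨c, List.mem_toFinset.mpr (List.mem_filter.mpr ⟨hc, (hp c hc).mpr hkP⟩), rfl⟩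
  have ht48 : Nat.card (centralizer ({D.rep t} : Set K)) = 48 := by
    have h := count (fun _ => True) (fun _ => true) (fun c _ => by simp)
    rw [List.filter_eq_self.mpr (fun _ _ => rfl), hClen] at h
    rw [← h]
    exact Nat.card_congr (Equiv.subtypeEquivRight fun k => by simp)
  have hZ : ∀ z ∈ centralizer ({D.rep t} : Set K),
      16 ∣ Nat.card ↥(centralizer ({D.rep t} : Set K) ⊓ centralizer ({z} : Set K)) →
        z = 1 ∨ z = D.rep t := by
    intro z hz h16
    obtain ⟨c, hc, rfl⟩ := (hmemC z).mp hz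
    have h := count (fun k => Commute k (D.rep c)) (fun y => D.com y c)
      (fun y hy => D.com_iff (hC y hy).1.1 (hC c hc).1.1)
    have he : Nat.card ↥(centralizer ({D.rep t} : Set K) ⊓ centralizer ({D.rep c} : Set K)) =
        (C.filter fun y => D.com y c).length := by
      rw [← h]
      exact Nat.card_congr (Equiv.subtypeEquivRight fun k => by
        rw [mem_inf, mem_centralizer_singleton_iff (g := D.rep c)]; rfl)
    rw [he] at h16
    rcases (hC c hc).2 with (h' | h') | h'
    · exact absurd (Nat.mod_eq_zero_of_dvd h16) h'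
    · exact Or.inl (h' ▸ hone)
    · exact Or.inr (h' ▸ rfl)
  have hVpw := pairwise_of_increasing V hVinc
  let v : Fin n → K := fun i => D.rep (V.getD i.1 0)
  have hvinj : Function.Injective v := by
    intro i j he
    have he' := D.rep_inj _ _ (hV i i.2).1.1 (hV j j.2).1.1 he
    rw [List.getD_eq_getElem _ _ (hVlen ▸ i.2), List.getD_eq_getElem _ _ (hVlen ▸ j.2)] at he'
    exact Fin.ext ((List.Nodup.getElem_inj_iff (hVpw.imp fun h => ne_of_lt h)).mp he')
  have hw : ∀ i, IsConj (D.rep t) (v i) := fun i => by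
    obtain ⟨⟨hvi, hwi⟩, he⟩ := hV i i.2
    exact isConj_iff.mpr ⟨D.rep (W.getD i.1 0),
      mul_inv_eq_iff_eq_mul.mpr ((D.eq2_iff _ _ _ _ hwi htok hvi hwi).mp he)⟩
  refine iso_of_commuting_graph hn h32 hord ht48 hZ v hvinj hw (bitAdj n A) (fun i j => ?_)
    (by rw [hn]; exact card_graphAut_le hG) hn2 f hf
  rw [bitAdj, hA i i.2 j j.2, Bool.and_eq_true, bne_iff_ne,
    D.com_iff (hV i i.2).1.1 (hV j j.2).1.1, ne_eq, Fin.val_inj]

end Cfsg.Agent.CommGraph
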