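/-
Kernel checks for the commuting graph of the involutions of `SL(3, 3)`, which is `PSL(3, 3)`.
-/
import Cfsg.Agent.Lib.CommutingGraph.Code
import Cfsg.Agent.Lib.CommutingGraph.L33Data

set_option autoImplicit false
set_option maxRecDepth 40000

namespace Cfsg.Agent.CommGraph.L33

/-- The `k`-th digit of a code in base three. -/
def digit (c k : ℕ) : ℕ := c / 3 ^ k % 3

/-- An entry of the product of two coded matrices. -/
def entry (a b i j : ℕ) : ℕ :=
  (digit a (3 * i) * digit b j + digit a (3 * i + 1) * digit b (3 + j) +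
    digit a (3 * i + 2) * digit b (6 + j)) % 3

/-- The test `a b = c d`. -/
def eqProd (a b c d : ℕ) : Bool :=
  (List.range 3).all fun i => (List.range 3).all fun j => entry a b i j == entry c d i j

/-- The determinant, with natural numbers. -/
def detCode (c : ℕ) : ℕ :=
  (digit c 0 * (digit c 4 * digit c 8 + 2 * (digit c 5 * digit c 7)) +
    2 * digit c 1 * (digit c 3 * digit c 8 + 2 * (digit c 5 * digit c 6)) +
    digit c 2 * (digit c 3 * digit c 7 + 2 * (digit c 4 * digit c 6))) % 3

/-- Codes of elements. -/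
def okCode (c : ℕ) : Bool := Nat.blt c 19683 && detCode c == 1

/-- The matrix of a code. -/
def mat (c : ℕ) : Matrix (Fin 3) (Fin 3) (ZMod 3) := Matrix.of fun i j => (digit c (3 * i + j) : ZMod 3)

theorem det_mat (c : ℕ) : (mat c).det = (detCode c : ZMod 3) := by
  have h2 : (2 : ZMod 3) = -1 := by decide
  rw [Matrix.det_fin_three, detCode, ZMod.natCast_mod]
  simp [mat]
  rw [h2]
  ring

theorem mul_apply_eq (a b : ℕ) (i j : Fin 3) :
    (mat a * mat b) i j = (entry a b i j : ZMod 3) := by
  rw [Matrix.mul_apply, Fin.sum_univ_three, entry, ZMod.natCast_mod]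
  simp [mat]

theorem entry_lt (a b i j : ℕ) : entry a b i j < 3 := Nat.mod_lt _ (by norm_num)

/-- The element of a valid code. -/
def elt (c : ℕ) (h : okCode c = true) : Matrix.SpecialLinearGroup (Fin 3) (ZMod 3) :=
  ⟨mat c, by rw [det_mat, beq_iff_eq.mp (Bool.and_eq_true_iff.mp h).2, Nat.cast_one]⟩

open scoped Classical in
/-- The element of a code. -/
noncomputable def rep (c : ℕ) : Matrix.SpecialLinearGroup (Fin 3) (ZMod 3) :=
  if h : okCode c = true then elt c h else 1

theorem coe_rep {c : ℕ} (h : okCode c = true) :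
    (rep c : Matrix (Fin 3) (Fin 3) (ZMod 3)) = mat c := by
  rw [rep, dif_pos h]
  rfl

theorem eq_of_mat_eq {a b : ℕ} (ha : a < 19683) (hb : b < 19683) (h : mat a = mat b) : a = b := by
  have hd : ∀ k < 9, digit a k = digit b k := by
    intro k hk
    have := congrFun (congrFun h (⟨k / 3, by omega⟩ : Fin 3)) (⟨k % 3, by omega⟩ : Fin 3)
    simp only [mat, Matrix.of_apply, Nat.div_add_mod] at this
    have h2 := congrArg ZMod.val this
    rw [ZMod.val_natCast, ZMod.val_natCast] at h2
    simpa [digit] using h2
  have h0 := hd 0; have h1 := hd 1; have h2 := hd 2; have h3 := hd 3; have h4 := hd 4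
  have h5 := hd 5; have h6 := hd 6; have h7 := hd 7; have h8 := hd 8
  simp [digit] at h0 h1 h2 h3 h4 h5 h6 h7 h8
  omega

theorem okCode_lt {c : ℕ} (h : okCode c = true) : c < 19683 :=
  Nat.blt_eq.mp (Bool.and_eq_true_iff.mp h).1

theorem rep_injective (a b : ℕ) (ha : okCode a = true) (hb : okCode b = true) (h : rep a = rep b) :
    a = b :=
  eq_of_mat_eq (okCode_lt ha) (okCode_lt hb) (by rw [← coe_rep ha, ← coe_rep hb, h])

theorem eqProd_iff (a b c d : ℕ) (ha : okCode a = true) (hb : okCode b = true)
    (hc : okCode c = true) (hd : okCode d = true) :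
    eqProd a b c d = true ↔ rep a * rep b = rep c * rep d := by
  have he : rep a * rep b = rep c * rep d ↔ mat a * mat b = mat c * mat d := by
    rw [← coe_rep ha, ← coe_rep hb, ← coe_rep hc, ← coe_rep hd,
      ← Matrix.SpecialLinearGroup.coe_mul, ← Matrix.SpecialLinearGroup.coe_mul]
    exact Subtype.ext_iff
  rw [he, ← Matrix.ext_iff]
  simp only [eqProd, List.all_eq_true, List.mem_range, beq_iff_eq, mul_apply_eq]
  constructor
  · intro h i j
    rw [h i i.2 j j.2]
  · intro h i hi j hj
    have := congrArg ZMod.val (h ⟨i, hi⟩ ⟨j, hj⟩)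
    rwa [ZMod.val_natCast, ZMod.val_natCast, Nat.mod_eq_of_lt (entry_lt _ _ _ _),
      Nat.mod_eq_of_lt (entry_lt _ _ _ _)] at this

/-- The coding. -/
noncomputable def coding : Coding (Matrix.SpecialLinearGroup (Fin 3) (ZMod 3)) where
  ok := okCode
  rep := rep
  eq2 := eqProd
  rep_inj := rep_injective
  eq2_iff := eqProd_iff

/-- The code of a matrix. -/
def encode (M : Matrix (Fin 3) (Fin 3) (ZMod 3)) : ℕ :=
  (M 0 0).val + 3 * ((M 0 1).val + 3 * ((M 0 2).val + 3 * ((M 1 0).val + 3 * ((M 1 1).val +
    3 * ((M 1 2).val + 3 * ((M 2 0).val + 3 * ((M 2 1).val + 3 * (M 2 2).val)))))))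

theorem encode_lt (M : Matrix (Fin 3) (Fin 3) (ZMod 3)) : encode M < 19683 := by
  have hb : ∀ i j, (M i j).val < 3 := fun i j => ZMod.val_lt _
  have := hb 0 0; have := hb 0 1; have := hb 0 2; have := hb 1 0; have := hb 1 1
  have := hb 1 2; have := hb 2 0; have := hb 2 1; have := hb 2 2
  unfold encode
  omega

theorem mat_encode (M : Matrix (Fin 3) (Fin 3) (ZMod 3)) : mat (encode M) = M := by
  have hb : ∀ i j, (M i j).val < 3 := fun i j => ZMod.val_lt _
  have := hb 0 0; have := hb 0 1; have := hb 0 2; have := hb 1 0; have := hb 1 1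
  have := hb 1 2; have := hb 2 0; have := hb 2 1; have := hb 2 2
  ext i j
  apply ZMod.val_injective
  simp only [mat, Matrix.of_apply, ZMod.val_natCast, digit]
  fin_cases i <;> fin_cases j <;> simp [encode] <;> omega

theorem exists_code (g : Matrix.SpecialLinearGroup (Fin 3) (ZMod 3)) :
    ∃ c, c < 19683 ∧ okCode c = true ∧ rep c = g := by
  have hok : okCode (encode g.1) = true := by
    rw [okCode, Bool.and_eq_true, Nat.blt_eq, beq_iff_eq]
    refine ⟨encode_lt _, ?_⟩
    have h := det_mat (encode g.1)
    rw [mat_encode, g.2] at h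
    have h' := congrArg ZMod.val h
    rw [ZMod.val_natCast, ZMod.val_one, detCode, Nat.mod_mod] at h'
    exact h'.symm
  exact ⟨_, encode_lt _, hok, Subtype.ext (by rw [coe_rep hok, mat_encode])⟩

theorem count_check : ((List.range 19683).filter okCode).length = 5616 := by decide +kernel

theorem complete_check : ((List.range 19683).all fun c =>
    !(okCode c && eqProd c t t c) || C.contains c) = true := by decide +kernel

theorem special_check : (okCode one && okCode t && eqProd t t one one && (t != one) &&
    (List.range 9).all fun k => digit one k == (if k % 4 = 0 then 1 else 0)) = true := by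
  decide +kernel

theorem family_check : checkFamily coding t 117 V W = true := by decide +kernel

theorem rows_check : checkRows coding 117 V A = true := by decide +kernel

theorem centralizer_check : checkCentralizer coding t one C = true := by decide +kernel

theorem graph_check : checkGraph 117 A E1 E2 steps (2 * (48 * 117)) = true := by decide +kernel

theorem natCard_eq : Nat.card (Matrix.SpecialLinearGroup (Fin 3) (ZMod 3)) = 48 * 117 := by
  classical
  rw [show 48 * 117 = ((List.range 19683).filter okCode).length by rw [count_check],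
    ← List.toFinset_card_of_nodup (List.nodup_range.filter _), ← Fintype.card_coe,
    ← Nat.card_eq_fintype_card]
  refine (Nat.card_congr (Equiv.ofBijective (fun c => rep c.1) ⟨?_, ?_⟩)).symm
  · intro a b h
    have ha := List.mem_toFinset.mp a.2
    have hb := List.mem_toFinset.mp b.2
    rw [List.mem_filter] at ha hb
    exact Subtype.ext (rep_injective _ _ ha.2 hb.2 h)
  · intro g
    obtain ⟨c, hc, hok, he⟩ := exists_code g
    exact ⟨⟨c, List.mem_toFinset.mpr (List.mem_filter.mpr ⟨List.mem_range.mpr hc, hok⟩)⟩, he⟩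

theorem rep_one : rep one = 1 := by
  have h := special_check
  simp only [Bool.and_eq_true, List.all_eq_true, List.mem_range, beq_iff_eq] at h
  refine Subtype.ext (Matrix.ext fun i j => ?_)
  rw [coe_rep h.1.1.1.1, mat, Matrix.of_apply, h.2 _ (by omega)]
  fin_cases i <;> fin_cases j <;> simp

theorem orderOf_t : orderOf (rep t) = 2 := by
  have h := special_check
  simp only [Bool.and_eq_true, bne_iff_ne] at h
  obtain ⟨⟨⟨⟨h1, ht⟩, htt⟩, hne⟩, -⟩ := h
  refine orderOf_eq_prime ?_ fun he => hne (rep_injective _ _ ht h1 (he.trans rep_one.symm))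
  rw [pow_two, (eqProd_iff _ _ _ _ ht ht h1 h1).mp htt, rep_one, mul_one]

theorem complete (k : Matrix.SpecialLinearGroup (Fin 3) (ZMod 3))
    (hk : k * rep t = rep t * k) : ∃ c ∈ C, rep c = k := by
  obtain ⟨c, hc, hok, rfl⟩ := exists_code k
  have h := List.all_eq_true.mp complete_check c (List.mem_range.mpr hc)
  have hs := special_check
  simp only [Bool.and_eq_true] at hs
  rw [hok, (eqProd_iff _ _ _ _ hok hs.1.1.1.2 hs.1.1.1.2 hok).mpr hk, Bool.and_self,
    Bool.not_true, Bool.false_or, List.contains_iff_mem] at h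
  exact ⟨c, h, rfl⟩

end Cfsg.Agent.CommGraph.L33
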