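/-
Kernel checks for the commuting graph of the involutions of `M11`.
-/
import Cfsg.Agent.Lib.CommutingGraph.Code
import Cfsg.Agent.Lib.CommutingGraph.M11Data
import Cfsg.Agent.Lib.GolayOrbits.M11Invol.Basic

set_option autoImplicit false
set_option maxRecDepth 40000
open Cfsg Cfsg.Agent.Golay Cfsg.Agent.GolayOrbits

namespace Cfsg.Agent.CommGraph.M11

theorem m11_eq_fix : Cfsg.Spor.M11 = Fix [1 <<< 0, dodec0] := by
  have h1 : pts dodec0 = Cfsg.Spor.squareDodecad := by decide +kernel
  have h2 : pt 0 = (some 0 : GolayPt) := by decide +kernel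
  ext g
  rw [mem_Fix_cons, mem_Fix_cons, Fix_nil, pts_single (by norm_num : 0 < 24), smul_single_iff,
    h1, h2]
  exact Iff.rfl

/-- Canonical codes of elements of `M11`. -/
def okCode (d : ℕ) : Bool := fixes [1 <<< 0, dodec0] d && GolayOrbits.canon d == d

open scoped Classical in
/-- The element of a code. -/
noncomputable def rep (d : ℕ) : ↥Cfsg.Spor.M11 :=
  if h : okCode d = true then
    ⟨toPerm d, m11_eq_fix ▸ toPerm_mem_Fix (Bool.and_eq_true_iff.mp h).1⟩ else 1

theorem valid_of_okCode {d : ℕ} (h : okCode d = true) : validPerm d = true :=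
  valid_of_fixes (Bool.and_eq_true_iff.mp h).1

theorem coe_rep {d : ℕ} (h : okCode d = true) :
    (rep d : Equiv.Perm GolayPt) = toPerm d := by
  rw [rep, dif_pos h]

/-- The coding. -/
noncomputable def coding : Coding ↥Cfsg.Spor.M11 where
  ok := okCode
  rep := rep
  eq2 := compEq
  rep_inj a b ha hb h := eq_of_toPerm_eq (valid_of_okCode ha) (valid_of_okCode hb)
    (beq_iff_eq.mp (Bool.and_eq_true_iff.mp ha).2) (beq_iff_eq.mp (Bool.and_eq_true_iff.mp hb).2)
    (by rw [← coe_rep ha, ← coe_rep hb, h])
  eq2_iff a b c d ha hb hc hd := by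
    rw [toPerm_compEq (valid_of_okCode ha) (valid_of_okCode hb) (valid_of_okCode hc)
      (valid_of_okCode hd), Subtype.ext_iff, Subgroup.coe_mul, Subgroup.coe_mul, coe_rep ha,
      coe_rep hb, coe_rep hc, coe_rep hd]

theorem one_eq : (one == GolayOrbits.idCode && okCode one) = true := by decide +kernel

theorem t_eq : (t == invol0 && okCode t) = true := by decide +kernel

theorem family_check : checkFamily coding t 165 V W = true := by decide +kernel

theorem rows_check : checkRows coding 165 V A = true := by decide +kernel

theorem centralizer_check : checkCentralizer coding t one C = true := by decide +kernel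

theorem graph_check : checkGraph 165 A E1 E2 steps (2 * (48 * 165)) = true := by decide +kernel

theorem centTable_sub : ((List.range 81).all fun m => !matInv m ||
    C.contains (centTable.getD m 0)) = true := by decide +kernel

end Cfsg.Agent.CommGraph.M11
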